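import Groth.Agent.ResProp.EF.K159.DiffOp
import Mathlib.Data.Finite.Sum
import Mathlib.Data.Finite.Prod

/-!
# Filtered differential operators commute with flat base change: the main statement over `R`
-/

set_option autoImplicit false

open TensorProduct

namespace Groth.Agent.ResProp.EF.K159

variable {R P : Type*} [CommRing R] [CommRing P] [Algebra R P]

section main

variable {K M : Type*} [AddCommGroup K] [Module R K] [Module P K] [IsScalarTower R P K]
  [AddCommGroup M] [Module R M] [Module P M] [IsScalarTower R P M] {I : Type}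

/-- operators with filtration conditions, commuting with the `op i` -/
def InD (FK : ℕ → Submodule P K) (FM : ℕ → Submodule P M) (opK : I → K →ₗ[P] K) (opM : I → M →ₗ[P] M) (j : ℕ)
    (L : K →ₗ[R] M) : Prop :=
  (∀ c m, Cond c (FK m) (FM (m + j + c)) L) ∧ ∀ i v, L (opK i v) = opM i (L v)

variable (R K) in
/-- the finite quotient -/
abbrev QQ (k : ℕ) := (P ⊗[R] K) ⧸ NN R (k + 1) (⊤ : Submodule P K)

variable (R K) in
/-- the universal operator -/
noncomputable def un (k : ℕ) : K →ₗ[R] QQ (P := P) R K k :=
  ((NN R (k + 1) (⊤ : Submodule P K)).mkQ.restrictScalars R).comp (TensorProduct.mk R P K 1)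

theorem un_apply (k : ℕ) (v : K) : un (P := P) R K k v = (NN R (k + 1) (⊤ : Submodule P K)).mkQ (1 ⊗ₜ v) := rfl

variable (R K M) in
/-- `f ↦ f ∘ un` -/
noncomputable def th (k : ℕ) : (QQ (P := P) R K k →ₗ[P] M) →ₗ[R] (K →ₗ[R] M) where
  toFun f := (f.restrictScalars R).comp (un R K k)
  map_add' _ _ := rfl
  map_smul' _ _ := rfl

@[simp] theorem th_apply (k : ℕ) (f : QQ (P := P) R K k →ₗ[P] M) (v : K) : th R K M k f v = f (un R K k v) := rfl

theorem lift_th (k : ℕ) (f : QQ (P := P) R K k →ₗ[P] M) :
    (th R K M k f).liftBaseChange P = f.comp (NN R (k + 1) (⊤ : Submodule P K)).mkQ := by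
  refine AlgebraTensorModule.ext fun p v => ?_
  rw [LinearMap.liftBaseChange_tmul, th_apply, LinearMap.comp_apply, un_apply, ← map_smul, ← map_smul,
    TensorProduct.smul_tmul', smul_eq_mul, mul_one]

theorem hom_ext' {k : ℕ} {f g : QQ (P := P) R K k →ₗ[P] M} (h : ∀ v, f (un R K k v) = g (un R K k v)) : f = g := by
  have : th R K M k f = th R K M k g := LinearMap.ext h
  have h2 := congrArg (fun L => L.liftBaseChange P) this
  simp only [lift_th] at h2
  refine LinearMap.ext fun x => ?_
  obtain ⟨y, rfl⟩ := (NN R (k + 1) (⊤ : Submodule P K)).mkQ_surjective x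
  exact LinearMap.congr_fun h2 y

/-- extension to the quotient -/
noncomputable def ext' (k : ℕ) (L : K →ₗ[R] M) (h : Cond (k + 1) ⊤ (⊥ : Submodule P M) L) : QQ (P := P) R K k →ₗ[P] M :=
  (NN R (k + 1) (⊤ : Submodule P K)).liftQ (L.liftBaseChange P) fun z hz => (cond_iff (k + 1) ⊤ ⊥ L).1 h z hz

theorem ext'_un (k : ℕ) (L : K →ₗ[R] M) (h : Cond (k + 1) ⊤ (⊥ : Submodule P M) L) (v : K) :
    ext' k L h (un R K k v) = L v := by
  rw [un_apply]
  change L.liftBaseChange P (1 ⊗ₜ v) = L v
  rw [LinearMap.liftBaseChange_tmul, one_smul]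

variable (R) in
/-- an operator on the quotient -/
noncomputable def opQ (k : ℕ) (u : K →ₗ[P] K) : QQ (P := P) R K k →ₗ[P] QQ (P := P) R K k :=
  ext' k ((un R K k).comp (u.restrictScalars R)) (by
    rw [cond_iff]
    intro z hz
    have h1 : ((un (P := P) R K k).comp (u.restrictScalars R)).liftBaseChange P =
        (NN R (k + 1) (⊤ : Submodule P K)).mkQ.comp (AlgebraTensorModule.lTensor P P (u.restrictScalars R)) := by
      refine AlgebraTensorModule.ext fun p v => ?_
      rw [LinearMap.liftBaseChange_tmul, LinearMap.comp_apply, LinearMap.comp_apply, un_apply, ← map_smul,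
        TensorProduct.smul_tmul', smul_eq_mul, mul_one]
      rfl
    rw [h1]
    refine (Submodule.Quotient.mk_eq_zero _).2 ?_
    have h2 : ∀ c, NN R c (⊤ : Submodule P K) ≤
        (NN R c (⊤ : Submodule P K)).comap (AlgebraTensorModule.lTensor P P (u.restrictScalars R)) := by
      intro c
      induction c with
      | zero => intro z _; rw [NN_zero_top]; trivial
      | succ c ih =>
        conv_lhs => rw [NN_succ]
        refine iSup_le fun x => ?_
        rw [Submodule.map_le_iff_le_comap]
        intro w hw
        change AlgebraTensorModule.lTensor P P (u.restrictScalars R) (dl R K x w) ∈ NN R (c + 1) ⊤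
        have h3 : (AlgebraTensorModule.lTensor P P (u.restrictScalars R)).comp (dl R K x) =
            (dl R K x).comp (AlgebraTensorModule.lTensor P P (u.restrictScalars R)) := by
          refine AlgebraTensorModule.ext fun p v => ?_
          rw [LinearMap.comp_apply, LinearMap.comp_apply, dl_apply, dl_apply, map_sub, map_smul, mr_tmul,
            AlgebraTensorModule.lTensor_tmul, AlgebraTensorModule.lTensor_tmul, mr_tmul,
            LinearMap.restrictScalars_apply, LinearMap.restrictScalars_apply, map_smul]
        have h4 := LinearMap.congr_fun h3 w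
        rw [LinearMap.comp_apply, LinearMap.comp_apply] at h4
        rw [h4]
        exact dl_mem R x (ih hw)
    exact h2 (k + 1) hz)

theorem opQ_un (k : ℕ) (u : K →ₗ[P] K) (v : K) : opQ R k u (un R K k v) = un R K k (u v) := by
  rw [opQ, ext'_un]; rfl

variable {S : Type*} [AddCommGroup S] [Module R S]

theorem th_psi (k : ℕ) (z : (QQ (P := P) R K k →ₗ[P] M) ⊗[R] S) :
    th R K (M ⊗[R] S) k (psi _ M S z) = psi (P := R) K M S ((th R K M k).rTensor S z) := by
  induction z with
  | zero => simp
  | add a b ha hb => rw [map_add, map_add, ha, hb, map_add, map_add]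
  | tmul f s => ext x; rfl

variable [IsNoetherianRing P] [Algebra.FiniteType R P] [Module.Finite P K] [Module.Flat R S]

theorem NN_bot (c : ℕ) : NN R c (⊥ : Submodule P K) = ⊥ := by
  induction c with
  | zero =>
    refine (Submodule.span_eq_bot).2 ?_
    rintro _ ⟨v, hv, rfl⟩
    rw [(Submodule.mem_bot P).1 hv]
    exact TensorProduct.tmul_zero _ _
  | succ c ih =>
    rw [NN_succ, ih]
    simp

theorem rg_bot : rg (R := R) S (⊥ : Submodule P M) = ⊥ := by
  refine le_antisymm ?_ bot_le
  rintro _ ⟨z, rfl⟩
  induction z with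
  | zero => simp
  | add a b ha hb => rw [map_add]; exact Submodule.add_mem _ ha hb
  | tmul f s =>
    have : f = 0 := Subsingleton.elim _ _
    subst this
    simp

theorem surj_main [Finite I] (k : ℕ) {FK : ℕ → Submodule P K} {FM : ℕ → Submodule P M} (hFM : ∀ n, k < n → FM n = ⊥)
    (hFK : FK 0 = ⊤) (hFK' : ∀ n, k < n → FK n = ⊥) (opK : I → K →ₗ[P] K) (opM : I → M →ₗ[P] M) (j : ℕ)
    (D : Submodule R (K →ₗ[R] M)) (hD : ∀ L, L ∈ D ↔ InD FK FM opK opM j L)
    (φ : K →ₗ[R] M ⊗[R] S)
    (hφ : InD FK (fun n => rg S (FM n)) opK (fun i => AlgebraTensorModule.rTensor R S (opM i)) j φ) :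
    ∃ z : D ⊗[R] S, psi (P := R) K M S (D.subtype.rTensor S z) = φ := by
  have hfp : Module.FinitePresentation P (QQ (P := P) R K k) := Module.finitePresentation_of_finite P _
  have h0 : Cond (k + 1) ⊤ (⊥ : Submodule P (M ⊗[R] S)) φ := by
    have := hφ.1 (k + 1) 0
    rw [hFK] at this
    beta_reduce at this
    rw [hFM _ (by omega), rg_bot] at this
    exact this
  have hfι : Finite ((Fin (k + 1) × Fin (k + 1)) ⊕ I) := inferInstance
  have key : ∃ z : (D.comap (th R K M k)) ⊗[R] S,
      psi (QQ (P := P) R K k) M S ((D.comap (th R K M k)).subtype.rTensor S z) = ext' k φ h0 := by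
    refine cond_core2 (X := QQ (P := P) R K k) (M := M) (S := S) (ι := (Fin (k + 1) × Fin (k + 1)) ⊕ I)
      (N := Sum.elim (fun a => (NN R a.1 (FK a.2)).map (NN R (k + 1) (⊤ : Submodule P K)).mkQ) (fun _ => ⊤))
      (fun a => IsNoetherian.noetherian _)
      (F := Sum.elim (fun a => FM (a.2 + j + a.1)) (fun _ => ⊥))
      (u := Sum.elim (fun _ => LinearMap.id) opM) (u' := Sum.elim (fun _ => 0) (fun _ => LinearMap.id))
      (v := fun _ => LinearMap.id) (v' := Sum.elim (fun _ => LinearMap.id) (fun i => opQ R k (opK i)))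
      (D.comap (th R K M k)) ?_ ?_ (ext' k φ h0) ?_
    · intro f hf
      change th R K M k f ∈ D
      rw [hD]
      refine ⟨fun c m => ?_, fun i v => ?_⟩
      · rw [cond_iff, lift_th]
        intro w hw
        rcases lt_or_ge k c with hc | hc
        · have : (NN R (k + 1) (⊤ : Submodule P K)).mkQ w = 0 :=
            (Submodule.Quotient.mk_eq_zero _).2 (NN_le R hc _ (NN_mono R c le_top hw))
          rw [LinearMap.comp_apply, this, map_zero]
          exact Submodule.zero_mem _
        · rcases lt_or_ge k m with hm | hm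
          · rw [hFK' m hm, NN_bot, Submodule.mem_bot] at hw
            rw [hw, map_zero]
            exact Submodule.zero_mem _
          · have := hf (Sum.inl (⟨c, by omega⟩, ⟨m, by omega⟩)) _ (Submodule.mem_map_of_mem hw)
            simpa using this
      · have := hf (Sum.inr i) (un R K k v) trivial
        simp only [Sum.elim_inr, LinearMap.id_apply, Submodule.mem_bot, opQ_un] at this
        rw [th_apply, th_apply]
        exact (sub_eq_zero.1 this).symm
    · intro f hf a
      have hf' : InD FK FM opK opM j (th R K M k f) := (hD _).1 hf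
      rcases a with ⟨c, m⟩ | i
      · rintro _ ⟨w, hw, rfl⟩
        have := (cond_iff _ _ _ _).1 (hf'.1 c m) w hw
        rw [lift_th] at this
        simpa using this
      · intro x _
        have h2 : (opM i).comp f = f.comp (opQ R k (opK i)) := by
          refine hom_ext' fun v => ?_
          rw [LinearMap.comp_apply, LinearMap.comp_apply, opQ_un]
          exact (hf'.2 i v).symm
        have h3 := LinearMap.congr_fun h2 x
        simp only [LinearMap.comp_apply] at h3
        simp [h3]
    · intro a
      rcases a with ⟨c, m⟩ | i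
      · rintro _ ⟨w, hw, rfl⟩
        have := (cond_iff _ _ _ _).1 (hφ.1 c m) w hw
        have h3 : ext' k φ h0 ((NN R (k + 1) (⊤ : Submodule P K)).mkQ w) = φ.liftBaseChange P w := rfl
        simp only [Sum.elim_inl, LinearMap.id_apply, h3]
        have e1 : AlgebraTensorModule.rTensor R S (LinearMap.id : M →ₗ[P] M) = LinearMap.id := by simp
        have e2 : AlgebraTensorModule.rTensor R S (0 : M →ₗ[P] M) = 0 := map_zero _
        rw [e1, e2, LinearMap.id_apply, LinearMap.zero_apply, sub_zero]
        exact this
      · intro x _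
        have h2 : (AlgebraTensorModule.rTensor R S (opM i)).comp (ext' k φ h0) = (ext' k φ h0).comp (opQ R k (opK i)) := by
          refine hom_ext' fun v => ?_
          rw [LinearMap.comp_apply, LinearMap.comp_apply, opQ_un, ext'_un, ext'_un]
          exact (hφ.2 i v).symm
        have h3 := LinearMap.congr_fun h2 x
        simp only [LinearMap.comp_apply] at h3
        have e1 : AlgebraTensorModule.rTensor R S (LinearMap.id : M →ₗ[P] M) = LinearMap.id := by simp
        simp only [Sum.elim_inr, LinearMap.id_apply, e1, h3, sub_self]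
        exact Submodule.zero_mem _
  obtain ⟨z, hz⟩ := key
  refine ⟨(LinearMap.restrict (p := D.comap (th R K M k)) (q := D) (th R K M k) fun f hf => hf).rTensor S z, ?_⟩
  have e : D.subtype.rTensor S ((LinearMap.restrict (p := D.comap (th R K M k)) (q := D) (th R K M k)
      fun f hf => hf).rTensor S z) = (th R K M k).rTensor S ((D.comap (th R K M k)).subtype.rTensor S z) := by
    rw [← LinearMap.rTensor_comp_apply, ← LinearMap.rTensor_comp_apply]
    rfl
  rw [e, ← th_psi, hz]
  refine LinearMap.ext fun v => ?_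
  rw [th_apply, ext'_un]

omit [IsNoetherianRing P] in
theorem inj_main (k : ℕ) {FK : ℕ → Submodule P K} {FM : ℕ → Submodule P M} (hFM : ∀ n, k < n → FM n = ⊥)
    (hFK : FK 0 = ⊤) (opK : I → K →ₗ[P] K) (opM : I → M →ₗ[P] M) (j : ℕ)
    (D : Submodule R (K →ₗ[R] M)) (hD : ∀ L, L ∈ D → InD FK FM opK opM j L) :
    Function.Injective fun z : D ⊗[R] S => psi (P := R) K M S (D.subtype.rTensor S z) := by
  have h0 : ∀ L ∈ D, Cond (k + 1) ⊤ (⊥ : Submodule P M) L := by
    intro L hL
    have := (hD L hL).1 (k + 1) 0
    rw [hFK, hFM _ (by omega)] at this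
    exact this
  let Θ : D →ₗ[R] (QQ (P := P) R K k →ₗ[P] M) :=
    { toFun := fun L => ext' k L.1 (h0 L.1 L.2)
      map_add' := fun a b => by
        refine hom_ext' fun v => ?_
        rw [LinearMap.add_apply, ext'_un, ext'_un, ext'_un]; rfl
      map_smul' := fun r a => by
        refine hom_ext' fun v => ?_
        rw [LinearMap.smul_apply, ext'_un, ext'_un]; rfl }
  have hΘ : Function.Injective Θ := by
    intro a b hab
    refine Subtype.ext (LinearMap.ext fun v => ?_)
    have := LinearMap.congr_fun hab (un R K k v)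
    change ext' k a.1 (h0 a.1 a.2) (un R K k v) = ext' k b.1 (h0 b.1 b.2) (un R K k v) at this
    rwa [ext'_un, ext'_un] at this
  have hth : (th R K M k).comp Θ = D.subtype := by
    refine LinearMap.ext fun a => LinearMap.ext fun v => ?_
    change ext' k a.1 (h0 a.1 a.2) (un R K k v) = a.1 v
    rw [ext'_un]
  intro z w hzw
  have h1 : psi (P := R) K M S (D.subtype.rTensor S (z - w)) = 0 := by
    rw [map_sub, map_sub]
    exact sub_eq_zero.2 hzw
  rw [← hth, LinearMap.rTensor_comp, LinearMap.comp_apply, ← th_psi] at h1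
  have h2 : psi (P := P) _ M S (Θ.rTensor S (z - w)) = 0 := by
    refine hom_ext' fun v => ?_
    exact LinearMap.congr_fun h1 v
  have h3 := (injective_iff_map_eq_zero _).1 (psi_injective (R := R) (P := P) (QQ (P := P) R K k) M S) _ h2
  have h4 := (injective_iff_map_eq_zero _).1 (Module.Flat.rTensor_preserves_injective_linearMap (M := S) Θ hΘ) _ h3
  exact sub_eq_zero.1 h4

end main

end Groth.Agent.ResProp.EF.K159
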