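import Groth.Agent.ResProp.EF.K159.HomFlat
import Mathlib.RingTheory.TensorProduct.Basic
import Mathlib.RingTheory.FiniteType

/-!
# Differential operators with filtration conditions commute with flat base change
-/

set_option autoImplicit false

open TensorProduct

namespace Groth.Agent.ResProp.EF.K159

variable {R P : Type*} [CommRing R] [CommRing P] [Algebra R P]

section cond2

variable {X M S : Type*} [AddCommGroup X] [Module P X] [Module.FinitePresentation P X]
  [AddCommGroup M] [Module R M] [Module P M] [IsScalarTower R P M] [AddCommGroup S] [Module R S]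
  [Module.Flat R S]

/-- `N ⊗ S → M ⊗ S`, range -/
noncomputable def rg (S : Type*) [AddCommGroup S] [Module R S] (F : Submodule P M) : Submodule P (M ⊗[R] S) :=
  LinearMap.range (AlgebraTensorModule.rTensor R S F.subtype)

theorem mem_rg_iff {F : Submodule P M} {z : M ⊗[R] S} :
    z ∈ rg S F ↔ AlgebraTensorModule.rTensor R S F.mkQ z = 0 := by
  have h : Function.Exact (F.subtype.restrictScalars R) (F.mkQ.restrictScalars R) := by
    intro x
    change F.mkQ x = 0 ↔ _
    rw [Submodule.mkQ_apply, Submodule.Quotient.mk_eq_zero]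
    exact ⟨fun hx => ⟨⟨x, hx⟩, rfl⟩, by rintro ⟨y, rfl⟩; exact y.2⟩
  have h2 := rTensor_exact S h F.mkQ_surjective
  exact (h2 z).symm

theorem cond_core2 {ι : Type*} [Finite ι] (N : ι → Submodule P X) (hN : ∀ a, (N a).FG) (F : ι → Submodule P M)
    (u u' : ι → M →ₗ[P] M) (v v' : ι → X →ₗ[P] X) (D : Submodule R (X →ₗ[P] M))
    (hD : ∀ f : X →ₗ[P] M, (∀ a, ∀ x ∈ N a, u a (f (v a x)) - u' a (f (v' a x)) ∈ F a) → f ∈ D)
    (hD' : ∀ f ∈ D, ∀ a, ∀ x ∈ N a, u a (f (v a x)) - u' a (f (v' a x)) ∈ F a)
    (φ : X →ₗ[P] M ⊗[R] S)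
    (hφ : ∀ a, ∀ x ∈ N a, AlgebraTensorModule.rTensor R S (u a) (φ (v a x)) -
      AlgebraTensorModule.rTensor R S (u' a) (φ (v' a x)) ∈ rg S (F a)) :
    ∃ z : D ⊗[R] S, psi X M S (D.subtype.rTensor S z) = φ := by
  have hfin : ∀ a, Module.Finite P (N a) := fun a => Module.Finite.iff_fg.2 (hN a)
  refine cond_core (N := fun a => N a) (G := fun a => M ⧸ F a)
    (fun a => (pre R (N a).subtype).comp ((post R (F a).mkQ).comp
      ((post R (u a)).comp (pre R (v a)) - (post R (u' a)).comp (pre R (v' a)))))
    (fun a => (pre R (N a).subtype).comp ((post R (AlgebraTensorModule.rTensor R S (F a).mkQ)).comp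
      ((post R (AlgebraTensorModule.rTensor R S (u a))).comp (pre R (v a)) -
        (post R (AlgebraTensorModule.rTensor R S (u' a))).comp (pre R (v' a))))) ?_ D ?_ φ ?_
  · intro a z
    simp only [LinearMap.comp_apply, LinearMap.sub_apply, LinearMap.rTensor_comp, LinearMap.rTensor_sub]
    rw [psi_pre, psi_pre, psi_post, psi_post, ← map_sub, psi_post, psi_pre]
  · intro f
    constructor
    · intro h
      refine hD f fun a x hx => ?_
      have := LinearMap.congr_fun (h a) ⟨x, hx⟩
      exact (Submodule.Quotient.mk_eq_zero (F a)).1 this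
    · intro h a
      refine LinearMap.ext fun x => ?_
      exact (Submodule.Quotient.mk_eq_zero (F a)).2 (hD' f h a x.1 x.2)
  · intro a
    refine LinearMap.ext fun x => ?_
    exact mem_rg_iff.1 (hφ a x.1 x.2)

end cond2

section delta

variable (R) (K : Type*) [AddCommGroup K] [Module R K] [Module P K] [IsScalarTower R P K]

/-- multiplication by `x` on the right factor -/
noncomputable def mr (x : P) : P ⊗[R] K →ₗ[P] P ⊗[R] K :=
  AlgebraTensorModule.lTensor P P ((LinearMap.lsmul P K x).restrictScalars R)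

@[simp] theorem mr_tmul (x p : P) (v : K) : mr R K x (p ⊗ₜ v) = p ⊗ₜ (x • v) := rfl

/-- `x ⊗ 1 - 1 ⊗ x` -/
noncomputable def dl (x : P) : P ⊗[R] K →ₗ[P] P ⊗[R] K := x • LinearMap.id - mr R K x

theorem dl_apply (x : P) (z : P ⊗[R] K) : dl R K x z = x • z - mr R K x z := rfl

theorem mr_add (x y : P) : mr R K (x + y) = mr R K x + mr R K y := by
  refine AlgebraTensorModule.ext fun p v => ?_
  rw [LinearMap.add_apply, mr_tmul, mr_tmul, mr_tmul, add_smul, TensorProduct.tmul_add]

theorem mr_mul (x y : P) (z : P ⊗[R] K) : mr R K (x * y) z = mr R K x (mr R K y z) := by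
  have : mr R K (x * y) = (mr R K x).comp (mr R K y) := by
    refine AlgebraTensorModule.ext fun p v => ?_
    rw [LinearMap.comp_apply, mr_tmul, mr_tmul, mr_tmul, mul_smul]
  rw [this]; rfl

theorem mr_algebraMap (r : R) (z : P ⊗[R] K) : mr R K (algebraMap R P r) z = algebraMap R P r • z := by
  have : mr R K (algebraMap R P r) = algebraMap R P r • (LinearMap.id : P ⊗[R] K →ₗ[P] P ⊗[R] K) := by
    refine AlgebraTensorModule.ext fun p v => ?_
    rw [mr_tmul, LinearMap.smul_apply, LinearMap.id_apply, algebraMap_smul, algebraMap_smul,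
      TensorProduct.tmul_smul]
  rw [this]; rfl

variable {K}

/-- the submodules `I^c (1 ⊗ F)` -/
noncomputable def NN : ℕ → Submodule P K → Submodule P (P ⊗[R] K)
  | 0, F => Submodule.span P ((fun v : K => (1 : P) ⊗ₜ[R] v) '' F)
  | c + 1, F => ⨆ x : P, (NN c F).map (dl R K x)

theorem NN_succ (c : ℕ) (F : Submodule P K) : NN R (c + 1) F = ⨆ x : P, (NN R c F).map (dl R K x) := rfl

theorem dl_mem {c : ℕ} {F : Submodule P K} (x : P) {z : P ⊗[R] K} (hz : z ∈ NN R c F) :
    dl R K x z ∈ NN R (c + 1) F :=
  Submodule.mem_iSup_of_mem x (Submodule.mem_map_of_mem hz)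

theorem mr_mem {c : ℕ} {F : Submodule P K} (x : P) {z : P ⊗[R] K} (hz : z ∈ NN R c F) : mr R K x z ∈ NN R c F := by
  induction c generalizing z with
  | zero =>
    have : NN R 0 F ≤ (NN R 0 F).comap (mr R K x) := by
      refine Submodule.span_le.2 ?_
      rintro _ ⟨v, hv, rfl⟩
      change mr R K x (1 ⊗ₜ v) ∈ NN R 0 F
      rw [mr_tmul]
      exact Submodule.subset_span ⟨x • v, F.smul_mem x hv, rfl⟩
    exact this hz
  | succ c ih =>
    have : NN R (c + 1) F ≤ (NN R (c + 1) F).comap (mr R K x) := by
      rw [NN_succ]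
      refine iSup_le fun y => ?_
      rw [Submodule.map_le_iff_le_comap]
      intro w hw
      change mr R K x (dl R K y w) ∈ NN R (c + 1) F
      have h : mr R K x (dl R K y w) = dl R K y (mr R K x w) := by
        rw [dl_apply, dl_apply, map_sub, map_smul, ← mr_mul, ← mr_mul, mul_comm]
      rw [h]
      exact dl_mem R y (ih hw)
    exact this hz

theorem NN_succ_le (c : ℕ) (F : Submodule P K) : NN R (c + 1) F ≤ NN R c F := by
  rw [NN_succ]
  refine iSup_le fun y => ?_
  rw [Submodule.map_le_iff_le_comap]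
  intro w hw
  exact (NN R c F).sub_mem ((NN R c F).smul_mem y hw) (mr_mem R y hw)

theorem NN_le {c d : ℕ} (h : c ≤ d) (F : Submodule P K) : NN R d F ≤ NN R c F := by
  induction d, h using Nat.le_induction with
  | base => exact le_rfl
  | succ n _ ih => exact (NN_succ_le R n F).trans ih

theorem NN_mono (c : ℕ) {F G : Submodule P K} (h : F ≤ G) : NN R c F ≤ NN R c G := by
  induction c with
  | zero => exact Submodule.span_mono (Set.image_mono h)
  | succ c ih => exact iSup_mono fun x => Submodule.map_mono ih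

/-- `P ⊗ K / I^(c) (1 ⊗ K)` is finite over the left factor -/
theorem exists_fg [Algebra.FiniteType R P] [Module.Finite P K] (c : ℕ) :
    ∃ G : Submodule P (P ⊗[R] K), G.FG ∧ NN R c (⊤ : Submodule P K) ≤ G ⊔ NN R (c + 1) ⊤ := by
  classical
  induction c with
  | zero =>
    obtain ⟨s, hs⟩ := (Module.finite_def (R := P) (M := K)).1 inferInstance
    refine ⟨Submodule.span P ((fun v : K => (1 : P) ⊗ₜ[R] v) '' s), ?_, ?_⟩
    · exact Submodule.fg_span (s.finite_toSet.image _)
    · set G := Submodule.span P ((fun v : K => (1 : P) ⊗ₜ[R] v) '' s)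
      refine Submodule.span_le.2 ?_
      rintro _ ⟨v, -, rfl⟩
      change (1 : P) ⊗ₜ[R] v ∈ G ⊔ NN R 1 ⊤
      have hv : v ∈ Submodule.span P (s : Set K) := by rw [hs]; trivial
      induction hv using Submodule.span_induction with
      | mem v hv => exact Submodule.mem_sup_left (Submodule.subset_span ⟨v, hv, rfl⟩)
      | zero => rw [TensorProduct.tmul_zero]; exact Submodule.zero_mem _
      | add a b _ _ ha hb => rw [TensorProduct.tmul_add]; exact Submodule.add_mem _ ha hb
      | smul p a _ ha =>
        have h : (1 : P) ⊗ₜ[R] (p • a) = p • ((1 : P) ⊗ₜ[R] a) - dl R K p ((1 : P) ⊗ₜ[R] a) := by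
          rw [dl_apply, mr_tmul, sub_sub_cancel]
        rw [h]
        refine Submodule.sub_mem _ (Submodule.smul_mem _ p ha) (Submodule.mem_sup_right ?_)
        exact dl_mem R p (Submodule.subset_span ⟨a, trivial, rfl⟩)
  | succ c ih =>
    obtain ⟨G, hG, hle⟩ := ih
    obtain ⟨s, hs⟩ := (Algebra.FiniteType.out (R := R) (A := P))
    refine ⟨⨆ x ∈ s, G.map (dl R K x), ?_, ?_⟩
    · exact Submodule.fg_biSup s _ fun x _ => hG.map _
    · set H := ⨆ x ∈ s, G.map (dl R K x)
      rw [NN_succ]
      refine iSup_le fun x => ?_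
      rw [Submodule.map_le_iff_le_comap]
      have hx : x ∈ Algebra.adjoin R (s : Set P) := by rw [hs]; trivial
      induction hx using Algebra.adjoin_induction with
      | mem x hx =>
        refine hle.trans (sup_le ?_ ?_)
        · intro g hg
          exact Submodule.mem_sup_left (Submodule.mem_iSup_of_mem x (Submodule.mem_iSup_of_mem hx
            (Submodule.mem_map_of_mem hg)))
        · intro g hg
          exact Submodule.mem_sup_right (dl_mem R x hg)
      | algebraMap r =>
        intro g _
        change dl R K _ g ∈ H ⊔ NN R (c + 1 + 1) ⊤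
        rw [dl_apply, mr_algebraMap, sub_self]
        exact Submodule.zero_mem _
      | add a b _ _ ha hb =>
        intro g hg
        change dl R K (a + b) g ∈ H ⊔ NN R (c + 1 + 1) ⊤
        have : dl R K (a + b) g = dl R K a g + dl R K b g := by
          rw [dl_apply, dl_apply, dl_apply, mr_add, add_smul, LinearMap.add_apply]; abel
        rw [this]
        exact Submodule.add_mem _ (ha hg) (hb hg)
      | mul a b _ _ ha hb =>
        intro g hg
        change dl R K (a * b) g ∈ H ⊔ NN R (c + 1 + 1) ⊤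
        have : dl R K (a * b) g = a • dl R K b g + b • dl R K a g - dl R K a (dl R K b g) := by
          simp only [dl_apply, mr_mul, map_sub, map_smul, smul_sub, mul_smul]
          rw [smul_comm b a g]; abel
        rw [this]
        refine Submodule.sub_mem _ (Submodule.add_mem _ (Submodule.smul_mem _ _ (hb hg))
          (Submodule.smul_mem _ _ (ha hg))) (Submodule.mem_sup_right (dl_mem R a (dl_mem R b hg)))

theorem NN_zero_top : NN R 0 (⊤ : Submodule P K) = ⊤ := by
  refine top_le_iff.1 fun z _ => ?_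
  induction z with
  | zero => exact Submodule.zero_mem _
  | add a b ha hb => exact Submodule.add_mem _ (ha trivial) (hb trivial)
  | tmul p v =>
    have : p ⊗ₜ[R] v = p • ((1 : P) ⊗ₜ[R] v) := by rw [TensorProduct.smul_tmul', smul_eq_mul, mul_one]
    rw [this]
    exact Submodule.smul_mem _ _ (Submodule.subset_span ⟨v, trivial, rfl⟩)

instance finite_quot [Algebra.FiniteType R P] [Module.Finite P K] (c : ℕ) :
    Module.Finite P ((P ⊗[R] K) ⧸ NN R c (⊤ : Submodule P K)) := by
  have key : ∀ c : ℕ, ∃ G : Submodule P (P ⊗[R] K), G.FG ∧ ⊤ ≤ G ⊔ NN R c (⊤ : Submodule P K) := by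
    intro c
    induction c with
    | zero => exact ⟨⊥, Submodule.fg_bot, by rw [NN_zero_top, bot_sup_eq]⟩
    | succ c ih =>
      obtain ⟨G, hG, hle⟩ := ih
      obtain ⟨G', hG', hle'⟩ := exists_fg R (P := P) (K := K) c
      refine ⟨G ⊔ G', hG.sup hG', hle.trans (sup_le (le_sup_left.trans le_sup_left) (hle'.trans ?_))⟩
      exact sup_le (le_sup_right.trans le_sup_left) le_sup_right
  obtain ⟨G, hG, hle⟩ := key c
  rw [Module.finite_def]
  have : (⊤ : Submodule P ((P ⊗[R] K) ⧸ NN R c (⊤ : Submodule P K))) = G.map (NN R c ⊤).mkQ := by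
    refine le_antisymm ?_ le_top
    rintro z -
    obtain ⟨w, rfl⟩ := (NN R c (⊤ : Submodule P K)).mkQ_surjective z
    obtain ⟨g, hg, n, hn, rfl⟩ := Submodule.mem_sup.1 (hle (Submodule.mem_top (x := w)))
    refine ⟨g, hg, ?_⟩
    rw [map_add, (show (NN R c (⊤ : Submodule P K)).mkQ n = 0 from (Submodule.Quotient.mk_eq_zero _).2 hn), add_zero]
  rw [this]
  exact hG.map _

end delta

section lin

variable {K M : Type*} [AddCommGroup K] [Module R K] [Module P K] [IsScalarTower R P K]
  [AddCommGroup M] [Module R M] [Module P M] [IsScalarTower R P M]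

/-- commutator -/
def ad (x : P) (L : K →ₗ[R] M) : K →ₗ[R] M :=
  x • L - L ∘ₗ (LinearMap.lsmul P K x).restrictScalars R

@[simp] theorem ad_apply (x : P) (L : K →ₗ[R] M) (v : K) : ad x L v = x • L v - L (x • v) := rfl

/-- all `c`-fold commutators map `F` into `G` -/
def Cond : ℕ → Submodule P K → Submodule P M → (K →ₗ[R] M) → Prop
  | 0, F, G, L => ∀ v ∈ F, L v ∈ G
  | c + 1, F, G, L => ∀ x : P, Cond c F G (ad x L)

theorem lift_dl (L : K →ₗ[R] M) (x : P) :
    (L.liftBaseChange P).comp (dl R K x) = (ad x L).liftBaseChange P := by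
  refine AlgebraTensorModule.ext fun p v => ?_
  simp [dl_apply, smul_sub, mul_smul, TensorProduct.smul_tmul', smul_comm x p]

theorem cond_iff (c : ℕ) (F : Submodule P K) (G : Submodule P M) (L : K →ₗ[R] M) :
    Cond c F G L ↔ ∀ z ∈ NN R c F, L.liftBaseChange P z ∈ G := by
  induction c generalizing L with
  | zero =>
    constructor
    · intro h
      have : NN R 0 F ≤ G.comap (L.liftBaseChange P) := by
        refine Submodule.span_le.2 ?_
        rintro _ ⟨v, hv, rfl⟩
        change L.liftBaseChange P (1 ⊗ₜ v) ∈ G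
        rw [LinearMap.liftBaseChange_tmul, one_smul]
        exact h v hv
      exact this
    · intro h v hv
      have := h (1 ⊗ₜ v) (Submodule.subset_span ⟨v, hv, rfl⟩)
      rwa [LinearMap.liftBaseChange_tmul, one_smul] at this
  | succ c ih =>
    constructor
    · intro h
      have : NN R (c + 1) F ≤ G.comap (L.liftBaseChange P) := by
        rw [NN_succ]
        refine iSup_le fun x => ?_
        rw [Submodule.map_le_iff_le_comap]
        intro w hw
        change L.liftBaseChange P (dl R K x w) ∈ G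
        have := (ih (ad x L)).1 (h x) w hw
        rwa [← lift_dl, LinearMap.comp_apply] at this
      exact this
    · intro h x
      rw [ih]
      intro z hz
      rw [← lift_dl]
      exact h _ (dl_mem R x hz)

theorem cond_mono {c : ℕ} {F F' : Submodule P K} {G G' : Submodule P M} {L : K →ₗ[R] M} (hF : F' ≤ F) (hG : G ≤ G')
    (h : Cond c F G L) : Cond c F' G' L := by
  rw [cond_iff] at h ⊢
  exact fun z hz => hG (h z (NN_mono R c hF hz))

end lin

end Groth.Agent.ResProp.EF.K159
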