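import Mathlib.Algebra.Module.FinitePresentation
import Mathlib.RingTheory.Flat.Basic
import Mathlib.LinearAlgebra.TensorProduct.Tower
import Mathlib.RingTheory.Noetherian.Basic

/-!
# `Hom_P(X, M) ⊗ S → Hom_P(X, M ⊗ S)`, and subspaces cut out by finitely many conditions

`R → P` commutative rings, `X` a finitely presented `P`-module, `S` a flat `R`-module.
-/

set_option autoImplicit false

open TensorProduct

namespace Groth.Agent.ResProp.EF.K159

variable {R P : Type*} [CommRing R] [CommRing P] [Algebra R P]

section psi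

variable (X M S : Type*) [AddCommGroup X] [Module P X]
  [AddCommGroup M] [Module R M] [Module P M] [IsScalarTower R P M] [AddCommGroup S] [Module R S]

/-- `f ⊗ s ↦ (x ↦ f x ⊗ s)` -/
noncomputable def psi : (X →ₗ[P] M) ⊗[R] S →ₗ[R] (X →ₗ[P] M ⊗[R] S) :=
  TensorProduct.lift
    { toFun := fun f =>
        { toFun := fun s =>
            { toFun := fun x => f x ⊗ₜ[R] s
              map_add' := fun x y => by rw [map_add, TensorProduct.add_tmul]
              map_smul' := fun p x => by
                rw [map_smul, RingHom.id_apply, TensorProduct.smul_tmul'] }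
          map_add' := fun s t => by
            ext x
            exact TensorProduct.tmul_add _ _ _
          map_smul' := fun r s => by
            ext x
            exact TensorProduct.tmul_smul r (f x) s }
      map_add' := fun f g => by
        ext s x
        exact TensorProduct.add_tmul _ _ _
      map_smul' := fun r f => by
        ext s x
        exact TensorProduct.smul_tmul' _ _ _ }

variable {X M S}

@[simp] theorem psi_tmul (f : X →ₗ[P] M) (s : S) (x : X) :
    psi (R := R) (P := P) X M S (f ⊗ₜ[R] s) x = f x ⊗ₜ[R] s := rfl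

end psi

section maps

variable {X Y M N : Type*} [AddCommGroup X] [Module P X] [AddCommGroup Y] [Module P Y]
  [AddCommGroup M] [Module R M] [Module P M] [IsScalarTower R P M]
  [AddCommGroup N] [Module R N] [Module P N] [IsScalarTower R P N]

variable (R) in
/-- precomposition -/
def pre (g : X →ₗ[P] Y) : (Y →ₗ[P] M) →ₗ[R] (X →ₗ[P] M) where
  toFun f := f.comp g
  map_add' _ _ := rfl
  map_smul' _ _ := rfl

@[simp] theorem pre_apply (g : X →ₗ[P] Y) (f : Y →ₗ[P] M) : pre R g f = f.comp g := rfl

variable (R) in
/-- postcomposition -/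
def post (h : M →ₗ[P] N) : (X →ₗ[P] M) →ₗ[R] (X →ₗ[P] N) where
  toFun f := h.comp f
  map_add' f g := by ext x; exact map_add h _ _
  map_smul' r f := by
    ext x
    change h (r • f x) = r • h (f x)
    rw [← IsScalarTower.algebraMap_smul P r (f x), map_smul, IsScalarTower.algebraMap_smul]

@[simp] theorem post_apply (h : M →ₗ[P] N) (f : X →ₗ[P] M) : post R h f = h.comp f := rfl

variable {S : Type*} [AddCommGroup S] [Module R S]

theorem psi_pre (g : X →ₗ[P] Y) (z : (Y →ₗ[P] M) ⊗[R] S) :
    pre R g (psi Y M S z) = psi X M S ((pre R g).rTensor S z) := by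
  induction z with
  | zero => simp
  | add a b ha hb => rw [map_add, map_add, ha, hb, map_add, map_add]
  | tmul f s => ext x; rfl

theorem psi_post (h : M →ₗ[P] N) (z : (X →ₗ[P] M) ⊗[R] S) :
    post R (AlgebraTensorModule.rTensor R S h) (psi X M S z) = psi X N S ((post R h).rTensor S z) := by
  induction z with
  | zero => simp
  | add a b ha hb => rw [map_add, map_add, ha, hb, map_add, map_add]
  | tmul f s => ext x; rfl

end maps

section free

variable (n : ℕ) (M S : Type*)
  [AddCommGroup M] [Module R M] [Module P M] [IsScalarTower R P M] [AddCommGroup S] [Module R S]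

variable (R P) in
/-- `m ↦ (x ↦ x i • m)` -/
def iot (i : Fin n) : M →ₗ[R] ((Fin n → P) →ₗ[P] M) where
  toFun m :=
    { toFun := fun x => x i • m
      map_add' := fun x y => add_smul _ _ _
      map_smul' := fun p x => mul_smul _ _ _ }
  map_add' a b := by ext x; exact smul_add _ _ _
  map_smul' r a := by
    ext x
    exact smul_comm _ _ _

variable (R P) in
/-- evaluation at `e_i` -/
def evl (i : Fin n) : ((Fin n → P) →ₗ[P] M) →ₗ[R] M where
  toFun f := f (Pi.single i 1)
  map_add' _ _ := rfl
  map_smul' _ _ := rfl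

theorem sum_iot_evl (f : (Fin n → P) →ₗ[P] M) : ∑ i, iot R P n M i (evl R P n M i f) = f := by
  classical
  refine LinearMap.ext fun x => ?_
  rw [LinearMap.sum_apply]
  conv_rhs => rw [pi_eq_sum_univ' x, map_sum]
  exact Finset.sum_congr rfl fun i _ => (map_smul f (x i) _).symm

theorem psi_iot (i : Fin n) (z : M ⊗[R] S) :
    psi (Fin n → P) M S ((iot R P n M i).rTensor S z) = iot R P n (M ⊗[R] S) i z := by
  induction z with
  | zero => simp
  | add a b ha hb => rw [map_add, map_add, ha, hb, map_add]
  | tmul f s => ext x; rfl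

theorem evl_psi (i : Fin n) (z : ((Fin n → P) →ₗ[P] M) ⊗[R] S) :
    evl R P n (M ⊗[R] S) i (psi (Fin n → P) M S z) = (evl R P n M i).rTensor S z := by
  induction z with
  | zero => simp
  | add a b ha hb => rw [map_add, map_add, ha, hb, map_add]
  | tmul f s => rfl

theorem psi_free_bijective : Function.Bijective (psi (R := R) (P := P) (Fin n → P) M S) := by
  constructor
  · rw [injective_iff_map_eq_zero]
    intro z hz
    have h1 : (∑ i, (iot R P n M i).comp (evl R P n M i)) = LinearMap.id := by
      refine LinearMap.ext fun f => ?_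
      rw [LinearMap.sum_apply]
      exact sum_iot_evl n M f
    have h2 : z = (∑ i, (iot R P n M i).comp (evl R P n M i)).rTensor S z := by
      rw [h1]; simp
    rw [h2]
    have h3 : (∑ i, (iot R P n M i).comp (evl R P n M i)).rTensor S z =
        ∑ i, ((iot R P n M i).comp (evl R P n M i)).rTensor S z := by
      have := map_sum (LinearMap.rTensorHom (R := R) S) (fun i => (iot R P n M i).comp (evl R P n M i)) Finset.univ
      have h4 := LinearMap.congr_fun this z
      rw [LinearMap.sum_apply] at h4
      exact h4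
    rw [h3]
    refine Finset.sum_eq_zero fun i _ => ?_
    rw [LinearMap.rTensor_comp, LinearMap.comp_apply, ← evl_psi, hz, map_zero, map_zero]
  · intro f
    refine ⟨∑ i, (iot R P n M i).rTensor S (evl R P n (M ⊗[R] S) i f), ?_⟩
    rw [map_sum]
    conv_rhs => rw [← sum_iot_evl (R := R) n (M ⊗[R] S) f]
    exact Finset.sum_congr rfl fun i _ => psi_iot n M S i _

end free

section fp

variable (X M S : Type*) [AddCommGroup X] [Module P X]
  [AddCommGroup M] [Module R M] [Module P M] [IsScalarTower R P M] [AddCommGroup S] [Module R S]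
  [Module.Flat R S]

theorem psi_injective [Module.Finite P X] : Function.Injective (psi (R := R) (P := P) X M S) := by
  obtain ⟨n, g, hg⟩ := Module.Finite.exists_fin' P X
  rw [injective_iff_map_eq_zero]
  intro z hz
  have h1 : psi (Fin n → P) M S ((pre R g).rTensor S z) = 0 := by
    rw [← psi_pre, hz, map_zero]
  have h2 := (injective_iff_map_eq_zero _).1 (psi_free_bijective (R := R) (P := P) n M S).1 _ h1
  have h3 : Function.Injective (pre (M := M) R g) := by
    intro a b hab
    refine LinearMap.ext fun x => ?_
    obtain ⟨y, rfl⟩ := hg x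
    exact LinearMap.congr_fun hab y
  have h4 := Module.Flat.rTensor_preserves_injective_linearMap (M := S) (pre (M := M) R g) h3
  exact (injective_iff_map_eq_zero _).1 h4 _ h2

theorem psi_surjective [Module.FinitePresentation P X] : Function.Surjective (psi (R := R) (P := P) X M S) := by
  obtain ⟨n, m, g, f, hg, hfg⟩ := Module.FinitePresentation.exists_fin' P X
  intro φ
  obtain ⟨z, hz⟩ := (psi_free_bijective (R := R) (P := P) n M S).2 (φ.comp g)
  have h0 : φ.comp (g.comp f) = 0 := by
    rw [hfg.linearMap_comp_eq_zero, LinearMap.comp_zero]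
  have h1 : psi (Fin m → P) M S ((pre R f).rTensor S z) = 0 := by
    rw [← psi_pre, hz]
    exact h0
  have h2 := (injective_iff_map_eq_zero _).1 (psi_free_bijective (R := R) (P := P) m M S).1 _ h1
  have hex : Function.Exact (pre (M := M) R g) (pre (M := M) R f) := by
    intro a
    constructor
    · intro ha
      have h5 : LinearMap.ker g ≤ LinearMap.ker a := by
        intro x hx
        obtain ⟨y, rfl⟩ := (hfg x).1 hx
        exact LinearMap.congr_fun ha y
      refine ⟨(g.quotKerEquivOfSurjective hg).symm.toLinearMap.comp LinearMap.id |> fun e =>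
        ((LinearMap.ker g).liftQ a h5).comp e, ?_⟩
      refine LinearMap.ext fun x => ?_
      change ((LinearMap.ker g).liftQ a h5) ((g.quotKerEquivOfSurjective hg).symm (g x)) = a x
      have : (g.quotKerEquivOfSurjective hg).symm (g x) = Submodule.Quotient.mk x := by
        rw [LinearEquiv.symm_apply_eq]
        rfl
      rw [this]
      rfl
    · rintro ⟨b, rfl⟩
      change b.comp (g.comp f) = 0
      rw [hfg.linearMap_comp_eq_zero, LinearMap.comp_zero]
  have hex2 := Module.Flat.rTensor_exact S hex
  obtain ⟨w, hw⟩ := (hex2 z).1 h2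
  refine ⟨w, ?_⟩
  refine LinearMap.ext fun x => ?_
  obtain ⟨y, rfl⟩ := hg x
  have h6 : pre R g (psi X M S w) = φ.comp g := by
    rw [psi_pre, hw, hz]
  exact LinearMap.congr_fun h6 y

end fp

section cond

variable {X M S : Type*} [AddCommGroup X] [Module P X] [Module.FinitePresentation P X]
  [AddCommGroup M] [Module R M] [Module P M] [IsScalarTower R P M] [AddCommGroup S] [Module R S]
  [Module.Flat R S]

/-- finitely many linear conditions on a homomorphism commute with flat base change -/
theorem cond_core {ι : Type*} [Finite ι] {N G : ι → Type*} [∀ a, AddCommGroup (N a)] [∀ a, Module P (N a)]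
    [∀ a, Module.Finite P (N a)] [∀ a, AddCommGroup (G a)] [∀ a, Module R (G a)] [∀ a, Module P (G a)]
    [∀ a, IsScalarTower R P (G a)]
    (Ψ : ∀ a, (X →ₗ[P] M) →ₗ[R] (N a →ₗ[P] G a))
    (Ψ' : ∀ a, (X →ₗ[P] M ⊗[R] S) →ₗ[R] (N a →ₗ[P] G a ⊗[R] S))
    (hΨ : ∀ a z, Ψ' a (psi X M S z) = psi (N a) (G a) S ((Ψ a).rTensor S z))
    (D : Submodule R (X →ₗ[P] M)) (hD : ∀ f, (∀ a, Ψ a f = 0) ↔ f ∈ D)
    (φ : X →ₗ[P] M ⊗[R] S) (hφ : ∀ a, Ψ' a φ = 0) :
    ∃ z : D ⊗[R] S, psi X M S (D.subtype.rTensor S z) = φ := by
  classical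
  have := Fintype.ofFinite ι
  obtain ⟨w, rfl⟩ := psi_surjective (R := R) (P := P) X M S φ
  have h1 : ∀ a, (Ψ a).rTensor S w = 0 := by
    intro a
    refine (injective_iff_map_eq_zero _).1 (psi_injective (R := R) (P := P) (N a) (G a) S) _ ?_
    rw [← hΨ, hφ]
  have h2 : (LinearMap.pi Ψ).rTensor S w = 0 := by
    have e1 : LinearMap.pi Ψ = ∑ a, (LinearMap.single R (fun a => (N a →ₗ[P] G a)) a).comp (Ψ a) := by
      refine LinearMap.ext fun f => ?_
      rw [LinearMap.sum_apply]
      funext a
      rw [Finset.sum_apply, Finset.sum_eq_single a]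
      · simp
      · intro b _ hb
        simp [Pi.single_apply, Ne.symm hb]
      · simp
    rw [e1]
    have := map_sum (LinearMap.rTensorHom (R := R) S)
      (fun a => (LinearMap.single R (fun a => (N a →ₗ[P] G a)) a).comp (Ψ a)) Finset.univ
    have h4 := LinearMap.congr_fun this w
    rw [LinearMap.sum_apply] at h4
    refine Eq.trans h4 (Finset.sum_eq_zero fun a _ => ?_)
    change LinearMap.rTensor S _ w = 0
    rw [LinearMap.rTensor_comp, LinearMap.comp_apply, h1, map_zero]
  have hex : Function.Exact D.subtype (LinearMap.pi Ψ) := by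
    intro f
    constructor
    · intro hf
      exact ⟨⟨f, (hD f).1 fun a => congrFun hf a⟩, rfl⟩
    · rintro ⟨g, rfl⟩
      funext a
      exact (hD g.1).2 g.2 a
  obtain ⟨z, hz⟩ := (Module.Flat.rTensor_exact S hex w).1 h2
  exact ⟨z, by rw [hz]⟩

end cond

end Groth.Agent.ResProp.EF.K159
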