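import Groth.Agent.ResProp.EF.K734.Ops
import Groth.Agent.ResProp.EF.K159.DiffMain

/-!
# Node OPS-BC: `DD^(j)` commutes with flat base change

`BC X Y` : `Y` is the base change of `X` along `R → R'` (`P' = R' ⊗ P` generated by `α P`, `K' = K ⊗ R'`, filtrations
generated by the images).  `BC.lift L` : the `R'`-linear extension of `L`.
`BC.lift_mem : L ∈ X.DD j → b.lift L ∈ Y.DD j`, `BC.surj`, `BC.inj` : `X.DD j ⊗[R] R' → Y.DD j` is bijective
(`R'` flat, `P` noetherian of finite type over `R`, `K` finite over `P`).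
-/

set_option autoImplicit false

open TensorProduct

universe u

namespace Groth.Agent.ResProp.EF.K159

open K734

/-- `Y` is the base change of `X` along `R → R'` -/
structure BC {R R' : Type u} [CommRing R] [CommRing R'] [Algebra R R'] {I : Type} (X : FD R I) (Y : FD R' I) where
  α : X.P →+* Y.P
  α_alg : ∀ r, α (algebraMap R X.P r) = algebraMap R' Y.P (algebraMap R R' r)
  κ : X.K →+ Y.K
  κ_smul : ∀ (x : X.P) (v : X.K), κ (x • v) = α x • κ v
  gen : Submodule.span R' (Set.range α) = ⊤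
  e : X.K ⊗[R] R' ≃+ Y.K
  he : ∀ (v : X.K) (s : R'), e (v ⊗ₜ s) = s • κ v
  fil : ∀ m y, y ∈ Y.FilK m ↔ y ∈ Submodule.span R' (κ '' X.FilK m)
  filP : ∀ m y, y ∈ Y.Fil m ↔ y ∈ Submodule.span R' (α '' X.Fil m)
  op : ∀ i v, κ (X.op i v) = Y.op i (κ v)

namespace BC

variable {R R' : Type u} [CommRing R] [CommRing R'] [Algebra R R'] {I : Type} {X : FD R I} {Y : FD R' I} (b : BC X Y)

theorem κ_smul' (r : R) (v : X.K) : b.κ (r • v) = algebraMap R R' r • b.κ v := by
  rw [← algebraMap_smul X.P r v, b.κ_smul, b.α_alg, algebraMap_smul]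

theorem e_P (x : X.P) (z : X.K ⊗[R] R') : b.e (x • z) = b.α x • b.e z := by
  induction z with
  | zero => simp
  | add a c ha hc => rw [smul_add, map_add, map_add, ha, hc, smul_add]
  | tmul v s => rw [TensorProduct.smul_tmul', b.he, b.he, b.κ_smul, smul_comm]

theorem e_R (r : R) (z : X.K ⊗[R] R') : b.e (r • z) = algebraMap R R' r • b.e z := by
  induction z with
  | zero => simp
  | add a c ha hc => rw [smul_add, map_add, map_add, ha, hc, smul_add]
  | tmul v s => rw [TensorProduct.smul_tmul', b.he, b.he, b.κ_smul', smul_comm]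

/-- multiplication with `s` on the right factor -/
noncomputable def ms (R : Type u) [CommRing R] [Algebra R R'] (K : Type u) [AddCommGroup K] [Module R K] (s : R') :
    K ⊗[R] R' →ₗ[R] K ⊗[R] R' := (LinearMap.mulLeft R s).lTensor K

@[simp] theorem ms_tmul (K : Type u) [AddCommGroup K] [Module R K] (s t : R') (v : K) :
    ms R K s (v ⊗ₜ t) = v ⊗ₜ (s * t) := rfl

theorem e_ms (s : R') (z : X.K ⊗[R] R') : b.e (ms R X.K s z) = s • b.e z := by
  induction z with
  | zero => simp
  | add a c ha hc => rw [map_add, map_add, map_add, ha, hc, smul_add]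
  | tmul v t => rw [ms_tmul, b.he, b.he, mul_smul]

theorem e_one (v : X.K) : b.e (v ⊗ₜ 1) = b.κ v := by rw [b.he, one_smul]

theorem span_κ : Submodule.span R' (Set.range b.κ) = ⊤ := by
  refine top_le_iff.1 fun y _ => ?_
  obtain ⟨z, rfl⟩ := b.e.surjective y
  induction z with
  | zero => rw [map_zero]; exact Submodule.zero_mem _
  | add a c ha hc => rw [map_add]; exact Submodule.add_mem _ (ha trivial) (hc trivial)
  | tmul v s => rw [b.he]; exact Submodule.smul_mem _ _ (Submodule.subset_span ⟨v, rfl⟩)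

theorem hom_ext {f g : Y.K →ₗ[R'] Y.K} (h : ∀ v, f (b.κ v) = g (b.κ v)) : f = g := by
  refine LinearMap.ext_on b.span_κ ?_
  rintro _ ⟨v, rfl⟩
  exact h v

theorem rTensor_ms (L : X.K →ₗ[R] X.K) (s : R') (z : X.K ⊗[R] R') :
    L.rTensor R' (ms R X.K s z) = ms R X.K s (L.rTensor R' z) := by
  induction z with
  | zero => simp
  | add a c ha hc => rw [map_add, map_add, map_add, map_add, ha, hc]
  | tmul v t => rfl

/-- the `R'`-linear extension of an operator -/
noncomputable def lift (L : X.K →ₗ[R] X.K) : Y.K →ₗ[R'] Y.K where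
  toFun y := b.e (L.rTensor R' (b.e.symm y))
  map_add' y z := by rw [map_add, map_add, map_add]
  map_smul' s y := by
    obtain ⟨z, rfl⟩ := b.e.surjective y
    rw [← b.e_ms, AddEquiv.symm_apply_apply, AddEquiv.symm_apply_apply, rTensor_ms, b.e_ms, RingHom.id_apply]

theorem lift_e (L : X.K →ₗ[R] X.K) (z : X.K ⊗[R] R') : b.lift L (b.e z) = b.e (L.rTensor R' z) := by
  change b.e (L.rTensor R' (b.e.symm (b.e z))) = _
  rw [AddEquiv.symm_apply_apply]

@[simp] theorem lift_κ (L : X.K →ₗ[R] X.K) (v : X.K) : b.lift L (b.κ v) = b.κ (L v) := by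
  rw [← b.e_one, lift_e, LinearMap.rTensor_tmul, b.e_one]

theorem lift_add (L M : X.K →ₗ[R] X.K) : b.lift (L + M) = b.lift L + b.lift M :=
  b.hom_ext fun v => by rw [lift_κ, LinearMap.add_apply, LinearMap.add_apply, lift_κ, lift_κ, map_add]

theorem lift_smul (r : R) (L : X.K →ₗ[R] X.K) : b.lift (r • L) = algebraMap R R' r • b.lift L :=
  b.hom_ext fun v => by rw [lift_κ, LinearMap.smul_apply, LinearMap.smul_apply, lift_κ, b.κ_smul']

theorem lift_smulP (x : X.P) (L : X.K →ₗ[R] X.K) : b.lift (x • L) = b.α x • b.lift L :=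
  b.hom_ext fun v => by rw [lift_κ, LinearMap.smul_apply, LinearMap.smul_apply, lift_κ, b.κ_smul]

theorem lift_comp (L M : X.K →ₗ[R] X.K) : b.lift (L ∘ₗ M) = b.lift L ∘ₗ b.lift M :=
  b.hom_ext fun v => by rw [lift_κ, LinearMap.comp_apply, LinearMap.comp_apply, lift_κ, lift_κ]

theorem comm_lift (x : X.P) (L : X.K →ₗ[R] X.K) : Y.comm (b.α x) (b.lift L) = b.lift (X.comm x L) :=
  b.hom_ext fun v => by
    have h2 : b.lift L (b.α x • b.κ v) = b.κ (L (x • v)) := by rw [← b.κ_smul, lift_κ]
    rw [FD.comm_apply, lift_κ, h2, lift_κ, FD.comm_apply, map_sub, b.κ_smul]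

theorem comm_add' (Y : FD R' I) (y z : Y.P) (L : Y.K →ₗ[R'] Y.K) : Y.comm (y + z) L = Y.comm y L + Y.comm z L := by
  ext v
  simp only [FD.comm_apply, LinearMap.add_apply, add_smul, map_add]
  abel

theorem comm_smul' (Y : FD R' I) (s : R') (y : Y.P) (L : Y.K →ₗ[R'] Y.K) : Y.comm (s • y) L = s • Y.comm y L := by
  ext v
  simp only [FD.comm_apply, LinearMap.smul_apply, smul_assoc, map_smul, smul_sub]

theorem smul_mem_of {N : Submodule Y.P (Y.K →ₗ[R'] Y.K)} (s : R') {L : Y.K →ₗ[R'] Y.K} (h : L ∈ N) : s • L ∈ N := by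
  have : s • L = algebraMap R' Y.P s • L := by
    ext v
    rw [LinearMap.smul_apply, LinearMap.smul_apply, algebraMap_smul]
  rw [this]
  exact N.smul_mem _ h

theorem smul_mem_of' {N : Submodule Y.P Y.K} (s : R') {v : Y.K} (h : v ∈ N) : s • v ∈ N := by
  rw [← algebraMap_smul Y.P s v]
  exact N.smul_mem _ h

theorem κ_mem {m : ℕ} {v : X.K} (h : v ∈ X.FilK m) : b.κ v ∈ Y.FilK m :=
  (b.fil m _).2 (Submodule.subset_span ⟨v, h, rfl⟩)

theorem lift_mem_DD0 {j : ℕ} {L : X.K →ₗ[R] X.K} (h : L ∈ X.DD0 j) : b.lift L ∈ Y.DD0 j := by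
  refine ⟨fun m v hv => ?_, fun i v => ?_⟩
  · rw [b.fil] at hv
    induction hv using Submodule.span_induction with
    | mem y hy =>
      obtain ⟨w, hw, rfl⟩ := hy
      rw [lift_κ]
      exact b.κ_mem (h.1 m w hw)
    | zero => rw [map_zero]; exact Submodule.zero_mem _
    | add a c _ _ ha hc => rw [map_add]; exact Submodule.add_mem _ ha hc
    | smul s a _ ha => rw [map_smul]; exact smul_mem_of' s ha
  · have : (b.lift L).comp ((Y.op i).restrictScalars R') = ((Y.op i).restrictScalars R').comp (b.lift L) := by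
      refine b.hom_ext fun w => ?_
      rw [LinearMap.comp_apply, LinearMap.comp_apply, LinearMap.restrictScalars_apply, LinearMap.restrictScalars_apply,
        ← b.op, lift_κ, lift_κ, ← b.op, h.2]
    exact LinearMap.congr_fun this v

theorem lift_mem {j : ℕ} {L : X.K →ₗ[R] X.K} (h : L ∈ X.DD j) : b.lift L ∈ Y.DD j := by
  rw [FD.mem_DD]
  intro c
  induction c generalizing j L with
  | zero => exact b.lift_mem_DD0 (X.DD_le_DD0 _ h)
  | succ c ih =>
    rw [FD.mem_DDc_succ]
    refine ⟨b.lift_mem_DD0 (X.DD_le_DD0 _ h), fun y => ?_⟩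
    have hy : y ∈ Submodule.span R' (Set.range b.α) := by rw [b.gen]; trivial
    induction hy using Submodule.span_induction with
    | mem y hy =>
      obtain ⟨x, rfl⟩ := hy
      rw [b.comm_lift]
      exact ih ((X.mem_DD_iff.1 h).2 x)
    | zero =>
      have : Y.comm 0 (b.lift L) = 0 := by
        ext v; simp
      rw [this]
      exact Submodule.zero_mem _
    | add a c _ _ ha hc => rw [comm_add']; exact Submodule.add_mem _ ha hc
    | smul s a _ ha => rw [comm_smul']; exact smul_mem_of s ha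

theorem inD_iff (X : FD R I) {j : ℕ} {L : X.K →ₗ[R] X.K} : L ∈ X.DD j ↔ InD X.FilK X.FilK X.op X.op j L := by
  constructor
  · intro h
    refine ⟨fun c => ?_, (X.DD_le_DD0 _ h).2⟩
    induction c generalizing j L with
    | zero => exact fun m v hv => (X.DD_le_DD0 _ h).1 m v hv
    | succ c ih =>
      intro m x
      have h1 := ih ((X.mem_DD_iff.1 h).2 x) m
      rw [show m + (j + 1) + c = m + j + (c + 1) by omega] at h1
      exact h1
  · intro h
    rw [FD.mem_DD]
    intro c
    have h0 : ∀ {j : ℕ} {L : X.K →ₗ[R] X.K}, InD X.FilK X.FilK X.op X.op j L → L ∈ X.DD0 j :=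
      fun h => ⟨fun m v hv => h.1 0 m v hv, h.2⟩
    induction c generalizing j L with
    | zero => exact h0 h
    | succ c ih =>
      rw [FD.mem_DDc_succ]
      refine ⟨h0 h, fun x => ih ⟨fun d m => ?_, fun i v => ?_⟩⟩
      · have := h.1 (d + 1) m x
        rw [show m + j + (d + 1) = m + (j + 1) + d by omega] at this
        exact this
      · have h3 : x • X.op i v = X.op i (x • v) := ((X.op i).map_smul x v).symm
        have h4 : x • X.op i (L v) = X.op i (x • L v) := ((X.op i).map_smul x (L v)).symm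
        rw [FD.comm_apply, FD.comm_apply, h3, h.2, h.2, map_sub, h4]

theorem rT_ms {n : ℕ} (s : R') (w : X.FilK n ⊗[R] R') :
    AlgebraTensorModule.rTensor R R' (X.FilK n).subtype (ms R (X.FilK n) s w) =
      ms R X.K s (AlgebraTensorModule.rTensor R R' (X.FilK n).subtype w) := by
  induction w with
  | zero => simp
  | add a c ha hc => rw [map_add, map_add, map_add, map_add, ha, hc]
  | tmul v t => rfl

theorem mem_rg_of {n : ℕ} {z : X.K ⊗[R] R'} (h : b.e z ∈ Y.FilK n) : z ∈ rg R' (X.FilK n) := by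
  rw [b.fil] at h
  have key : ∀ y ∈ Submodule.span R' (b.κ '' X.FilK n), ∃ w ∈ rg R' (X.FilK n), b.e w = y := by
    intro y hy
    induction hy using Submodule.span_induction with
    | mem y hy =>
      obtain ⟨v, hv, rfl⟩ := hy
      exact ⟨v ⊗ₜ 1, ⟨(⟨v, hv⟩ : X.FilK n) ⊗ₜ 1, rfl⟩, b.e_one v⟩
    | zero => exact ⟨0, Submodule.zero_mem _, map_zero _⟩
    | add a c _ _ ha hc =>
      obtain ⟨w, hw, rfl⟩ := ha
      obtain ⟨w', hw', rfl⟩ := hc
      exact ⟨w + w', Submodule.add_mem _ hw hw', map_add _ _ _⟩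
    | smul s a _ ha =>
      obtain ⟨_, ⟨w, rfl⟩, rfl⟩ := ha
      exact ⟨ms R X.K s (AlgebraTensorModule.rTensor R R' (X.FilK n).subtype w),
        ⟨ms R (X.FilK n) s w, rT_ms s w⟩, b.e_ms s _⟩
  obtain ⟨w, hw, hwz⟩ := key _ h
  rwa [← b.e.injective hwz]

/-- restriction of an operator along `K → K'` -/
noncomputable def res (L' : Y.K →ₗ[R'] Y.K) : X.K →ₗ[R] X.K ⊗[R] R' where
  toFun v := b.e.symm (L' (b.κ v))
  map_add' v w := by rw [map_add, map_add, map_add]
  map_smul' r v := by
    apply b.e.injective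
    rw [RingHom.id_apply, b.e_R, AddEquiv.apply_symm_apply, AddEquiv.apply_symm_apply, b.κ_smul', map_smul]

theorem e_res (L' : Y.K →ₗ[R'] Y.K) (v : X.K) : b.e (b.res L' v) = L' (b.κ v) := AddEquiv.apply_symm_apply _ _

theorem ad_res (x : X.P) (L' : Y.K →ₗ[R'] Y.K) : ad x (b.res L') = b.res (Y.comm (b.α x) L') := by
  refine LinearMap.ext fun v => b.e.injective ?_
  rw [ad_apply, map_sub, b.e_P, b.e_res, b.e_res, b.e_res, FD.comm_apply, b.κ_smul]

theorem e_rTensor_op (i : I) (z : X.K ⊗[R] R') :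
    b.e (AlgebraTensorModule.rTensor R R' (X.op i) z) = Y.op i (b.e z) := by
  induction z with
  | zero => simp
  | add a c ha hc => rw [map_add, map_add, map_add, map_add, ha, hc]
  | tmul v s =>
    rw [AlgebraTensorModule.rTensor_tmul, b.he, b.he, b.op, ← algebraMap_smul Y.P s, ← algebraMap_smul Y.P s, map_smul]

theorem inD_res {j : ℕ} {L' : Y.K →ₗ[R'] Y.K} (h : L' ∈ Y.DD j) :
    InD X.FilK (fun n => rg R' (X.FilK n)) X.op (fun i => AlgebraTensorModule.rTensor R R' (X.op i)) j (b.res L') := by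
  refine ⟨fun c => ?_, fun i v => ?_⟩
  · induction c generalizing j L' with
    | zero =>
      intro m v hv
      apply b.mem_rg_of
      rw [b.e_res]
      exact (Y.DD_le_DD0 _ h).1 m _ (b.κ_mem hv)
    | succ c ih =>
      intro m x
      have h1 := ih ((Y.mem_DD_iff.1 h).2 (b.α x)) m
      rw [ad_res]
      rw [show m + (j + 1) + c = m + j + (c + 1) by omega] at h1
      exact h1
  · apply b.e.injective
    rw [b.e_res, b.e_rTensor_op, b.e_res, b.op, (Y.DD_le_DD0 _ h).2]

/-- `X.DD j ⊗ R' → End_{R'}(K')`, `L ⊗ s ↦ s • lift L` -/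
noncomputable def hom (j : ℕ) : X.DD j ⊗[R] R' →+ (Y.K →ₗ[R'] Y.K) :=
  TensorProduct.liftAddHom
    { toFun := fun L =>
        { toFun := fun s => s • b.lift L.1
          map_zero' := zero_smul _ _
          map_add' := fun s t => add_smul _ _ _ }
      map_zero' := by
        ext s : 1
        change s • b.lift 0 = 0
        have : b.lift 0 = 0 := b.hom_ext fun v => by simp
        rw [this, smul_zero]
      map_add' := fun L M => by
        ext s : 1
        change s • b.lift (L.1 + M.1) = s • b.lift L.1 + s • b.lift M.1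
        rw [lift_add, smul_add] }
    (fun r L s => by
      change s • b.lift (r • L.1) = (r • s) • b.lift L.1
      rw [lift_smul, smul_smul]
      congr 1
      rw [Algebra.smul_def, mul_comm])

theorem hom_tmul (j : ℕ) (L : X.DD j) (s : R') : b.hom j (L ⊗ₜ s) = s • b.lift L.1 := rfl

theorem hom_mem (j : ℕ) (z : X.DD j ⊗[R] R') : b.hom j z ∈ Y.DD j := by
  induction z with
  | zero => rw [map_zero]; exact Submodule.zero_mem _
  | add a c ha hc => rw [map_add]; exact Submodule.add_mem _ ha hc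
  | tmul L s => rw [hom_tmul]; exact smul_mem_of s (b.lift_mem L.2)

/-- inclusion -/
def dsub (X : FD R I) (j : ℕ) : X.DD j →ₗ[R] (X.K →ₗ[R] X.K) where
  toFun L := L.1
  map_add' _ _ := rfl
  map_smul' _ _ := rfl

/-- identity -/
def toD (X : FD R I) (j : ℕ) : (X.DD j).restrictScalars R →ₗ[R] X.DD j where
  toFun L := ⟨L.1, L.2⟩
  map_add' _ _ := rfl
  map_smul' _ _ := rfl

/-- identity -/
def ofD (X : FD R I) (j : ℕ) : X.DD j →ₗ[R] (X.DD j).restrictScalars R where
  toFun L := ⟨L.1, L.2⟩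
  map_add' _ _ := rfl
  map_smul' _ _ := rfl

theorem hom_κ (j : ℕ) (z : X.DD j ⊗[R] R') (v : X.K) :
    b.hom j z (b.κ v) = b.e (psi (P := R) X.K X.K R' ((dsub X j).rTensor R' z) v) := by
  induction z with
  | zero => rw [map_zero, map_zero, map_zero, LinearMap.zero_apply, LinearMap.zero_apply, map_zero]
  | add a c ha hc => rw [map_add, LinearMap.add_apply, ha, hc, map_add, map_add, LinearMap.add_apply, map_add]
  | tmul L s =>
    rw [hom_tmul, LinearMap.smul_apply, lift_κ, LinearMap.rTensor_tmul, psi_tmul, b.he]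
    rfl

variable [Algebra.FiniteType R X.P] [Module.Finite X.P X.K] [Module.Flat R R']

theorem inj (j : ℕ) : Function.Injective (b.hom j) := by
  rw [injective_iff_map_eq_zero]
  intro z hz
  have h1 : psi (P := R) X.K X.K R' ((dsub X j).rTensor R' z) = 0 := by
    refine LinearMap.ext fun v => b.e.injective ?_
    rw [← b.hom_κ, hz, LinearMap.zero_apply, LinearMap.zero_apply, map_zero]
  have hFM : ∀ n, X.k < n → X.FilK n = ⊥ := fun n hn => le_bot_iff.1 ((X.FilK_le hn).trans_eq X.FilK_top)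
  have h2 := inj_main (P := X.P) (S := R') X.k (FK := X.FilK) (FM := X.FilK) hFM X.FilK_zero X.op X.op j
    ((X.DD j).restrictScalars R) (fun L hL => (inD_iff X).1 hL)
  have h3 : (dsub X j).rTensor R' z = ((X.DD j).restrictScalars R).subtype.rTensor R' ((ofD X j).rTensor R' z) := by
    rw [← LinearMap.rTensor_comp_apply]
    rfl
  have h4 : (ofD X j).rTensor R' z = 0 := by
    refine h2 ?_
    change psi (P := R) X.K X.K R' _ = psi (P := R) X.K X.K R' _
    rw [← h3, h1, map_zero, map_zero]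
  have h5 : z = (toD X j).rTensor R' ((ofD X j).rTensor R' z) := by
    rw [← LinearMap.rTensor_comp_apply]
    have : toD X j ∘ₗ ofD X j = LinearMap.id := rfl
    rw [this, LinearMap.rTensor_id, LinearMap.id_apply]
  rw [h5, h4, map_zero]

theorem surj [IsNoetherianRing X.P] [Finite I] (j : ℕ) {L' : Y.K →ₗ[R'] Y.K} (h : L' ∈ Y.DD j) :
    ∃ z : X.DD j ⊗[R] R', b.hom j z = L' := by
  have hFM : ∀ n, X.k < n → X.FilK n = ⊥ := fun n hn => le_bot_iff.1 ((X.FilK_le hn).trans_eq X.FilK_top)
  obtain ⟨z, hz⟩ := surj_main (P := X.P) (S := R') X.k (FK := X.FilK) (FM := X.FilK) hFM X.FilK_zero hFM X.op X.op j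
    ((X.DD j).restrictScalars R) (fun L => inD_iff X) (b.res L') (b.inD_res h)
  refine ⟨(toD X j).rTensor R' z, b.hom_ext fun v => ?_⟩
  have h3 : (dsub X j).rTensor R' ((toD X j).rTensor R' z) = ((X.DD j).restrictScalars R).subtype.rTensor R' z := by
    rw [← LinearMap.rTensor_comp_apply]
    rfl
  rw [hom_κ, h3, hz, b.e_res]

/-- **OPS-BC** -/
theorem bijective [IsNoetherianRing X.P] [Finite I] (j : ℕ) :
    Function.Bijective fun z : X.DD j ⊗[R] R' => (⟨b.hom j z, b.hom_mem j z⟩ : Y.DD j) :=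
  ⟨fun _ _ h => b.inj j (congrArg Subtype.val h), fun L' => by
    obtain ⟨z, hz⟩ := b.surj j L'.2
    exact ⟨z, Subtype.ext hz⟩⟩

end BC

end Groth.Agent.ResProp.EF.K159
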